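import Cfsg.Agent.Omega.NOThreeL.AFour.Act

/-!
# NO-3L, box R, (A): `U_H` acts on `V_P / D = natural^k` as upper unitriangular matrices, all `q`, all `D`

`M : NatK F S P (zl S P) D k`, `V = zl S P ≤ S`; `U ≤ S` is elementary abelian and normal in `S`
(`AFour.Quad S P U`). The arguments of `AFour.Act` (`D = 1`) are in coordinates and hold for all `D`.

* `sg_eq` : `U` normalises every factor;
* `exists_up` : every `u ∈ U` acts on the coordinates as `fun i => up (b i)`.
-/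

set_option autoImplicit false
set_option Elab.async false

namespace Cfsg.Agent.Omega.NOThreeL.RStr

open Subgroup Cfsg Cfsg.Agent.ZN Cfsg.Agent.ZN.ChoiceBase
open Cfsg.Agent.Omega.MinPar Cfsg.Agent.Omega.FFThm
open Cfsg.Agent.MinSimple.VModule (le_normalizer_zl)
open Cfsg.Agent.Lib.SL2Mat
open Cfsg.Agent.Omega.NatPair (ap ap_mul ap_one ap_inv_ap exists_ap ap_add)
open Cfsg.Agent.Omega.IId (cj_mem cj_mem')
open Cfsg.Agent.Omega.NOThreeL.AFour (Quad)

universe u

variable {G : Type u} [Group G] {F : Type} [Field F] {S P D : Subgroup G} {k : ℕ}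

section basic

variable (M : NatK F S P (zl S P) D k)

include M in
theorem e_one : M.e 1 = 0 := by
  have := M.mul 1 (one_mem _) 1 (one_mem _)
  rw [mul_one] at this
  exact left_eq_add.1 this

theorem e_inv {v : G} (hv : v ∈ zl S P) : M.e v⁻¹ = - M.e v := by
  have := M.mul v⁻¹ (inv_mem hv) v hv
  rw [inv_mul_cancel, e_one] at this
  exact eq_neg_of_add_eq_zero_left this.symm

/-- `v` lies in the `i`-th factor (times `D`) -/
def InFac (i : Fin k) (v : G) : Prop := v ∈ zl S P ∧ ∀ j, j ≠ i → M.e v j = 0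

open Classical in
theorem exists_fac (i : Fin k) (x : Fin 2 → F) : ∃ v, InFac M i v ∧ M.e v i = x := by
  obtain ⟨v, hv, h⟩ := M.surj (Pi.single i x)
  exact ⟨v, ⟨hv, fun j hj => by rw [h, Pi.single_eq_of_ne hj]⟩, by rw [h, Pi.single_eq_same]⟩

/-- The permutation of the factors induced by `g ∈ P`. -/
noncomputable def sg {g : G} (hg : g ∈ P) : Equiv.Perm (Fin k) := (M.perm g hg).choose

theorem sg_spec {g : G} (hg : g ∈ P) {v : G} (hv : v ∈ zl S P) (i : Fin k) :
    M.e (g * v * g⁻¹) (sg M hg i) = 0 ↔ M.e v i = 0 := (M.perm g hg).choose_spec v hv i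

/-- An element of `S` maps the line of the factor `i` to the line of its image. -/
theorem e_conj_line (hSP : S ≤ P) {s : G} (hs : s ∈ S) {v : G} (hv : v ∈ zl S P) (i : Fin k) :
    M.e (s * v * s⁻¹) (sg M (hSP hs) i) 1 = 0 ↔ M.e v i 1 = 0 := by
  obtain ⟨τ, hτ⟩ := M.line s hs
  have h1 : τ i = sg M (hSP hs) i := by
    by_contra hne
    obtain ⟨w, hw, hwe⟩ := exists_fac M i ![0, 1]
    obtain ⟨j, hj⟩ := (sg M (hSP hs)).surjective (τ i)
    have hji : j ≠ i := by
      rintro rfl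
      exact hne hj.symm
    have h4 : M.e (s * w * s⁻¹) (τ i) 1 = 0 := by
      have h5 := (sg_spec M (hSP hs) hw.1 j).2 (hw.2 j hji)
      rw [hj] at h5
      rw [h5]; rfl
    have h5 := (hτ w hw.1 i).1 h4
    rw [hwe] at h5
    simp at h5
  rw [← h1]
  exact hτ v hv i

theorem acts_inv {g : G} (hg : g ∈ P) {A : Fin k → Matrix.SpecialLinearGroup (Fin 2) F}
    (h1 : ∀ v ∈ zl S P, ∀ i, M.e (g * v * g⁻¹) i = ap (A i) (M.e v i)) :
    ∀ v ∈ zl S P, ∀ i, M.e (g⁻¹ * v * g⁻¹⁻¹) i = ap (A⁻¹ i) (M.e v i) := by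
  intro v hv i
  have h2 := h1 _ (cj_mem (inv_mem hg) hv) i
  have e : g * (g⁻¹ * v * g⁻¹⁻¹) * g⁻¹ = v := by group
  rw [e] at h2
  rw [h2, Pi.inv_apply, ap_inv_ap]

end basic

section main

variable {U : Subgroup G} (h : Quad S P U)
include h

variable (M : NatK F S P (zl S P) D k)

/-- **`U` normalises the factors.** -/
theorem sg_eq {u : G} (hu : u ∈ U) (i : Fin k) : sg M (h.UP hu) i = i := by
  have huP := h.UP hu
  by_contra hne
  obtain ⟨t, ht, htA⟩ := M.unip (Pi.single i 1)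
  have htP := h.SP ht
  obtain ⟨n, hn, hne1⟩ := exists_fac M i ![0, 1]
  have hnV := hn.1
  set c := u * n * u⁻¹ * n⁻¹ with hc
  have hcU : c ∈ U := h.cm_mem hu (h.VS hnV)
  have hcV : c ∈ zl S P := mul_mem (cj_mem huP hnV) (inv_mem hnV)
  set w := u * t * u⁻¹ * t⁻¹ with hw
  have hwU : w ∈ U := h.cm_mem hu ht
  have hwc := h.ab w hwU c hcU
  have key : u * (t⁻¹ * (u⁻¹ * c * u) * t) * u⁻¹ = t⁻¹ * c * t := by
    have e1 : w⁻¹ * c * w = c := by
      calc w⁻¹ * c * w = w⁻¹ * (c * w) := by group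
        _ = w⁻¹ * (w * c) := by rw [hwc]
        _ = c := by group
    calc u * (t⁻¹ * (u⁻¹ * c * u) * t) * u⁻¹ = t⁻¹ * (w⁻¹ * c * w) * t := by rw [hw]; group
      _ = t⁻¹ * c * t := by rw [e1]
  -- coordinates
  have e0 : M.e (u * n * u⁻¹) i = 0 := by
    obtain ⟨j, hj⟩ := (sg M huP).surjective i
    have h1 := (sg_spec M huP hnV j).2 (by
      refine hn.2 j fun h2 => hne ?_
      rw [← h2]
      rw [← h2] at hj
      exact hj)
    rwa [hj] at h1
  have ec : M.e c i = ![0, -1] := by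
    rw [hc, M.mul _ (cj_mem huP hnV) _ (inv_mem hnV), Pi.add_apply, e0, e_inv M hnV, Pi.neg_apply, hne1]
    apply NatPair.ext2 <;> simp
  have hd : u⁻¹ * c * u ∈ zl S P := cj_mem' huP hcV
  have hx : t⁻¹ * (u⁻¹ * c * u) * t ∈ zl S P := cj_mem' htP hd
  have htA' := acts_inv M htP htA.1
  -- right side
  have er : M.e (t⁻¹ * c * t) i = ![1, -1] := by
    have h1 := htA' c hcV i
    rw [inv_inv] at h1
    rw [h1, ec, Pi.inv_apply, Pi.single_eq_same, up_inv]
    apply NatPair.ext2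
    · rw [NatPair.ap_zero']
      simp
    · rw [NatPair.ap_one']
      simp
  -- left side
  have el : M.e (u * (t⁻¹ * (u⁻¹ * c * u) * t) * u⁻¹) i = ![0, -1] := by
    obtain ⟨j, hj⟩ := (sg M huP).surjective i
    have hji : j ≠ i := by
      rintro rfl
      exact hne hj
    have h1 : M.e (t⁻¹ * (u⁻¹ * c * u) * t * (u⁻¹ * c * u)⁻¹) j = 0 := by
      have h2 := htA' _ hd j
      rw [inv_inv] at h2
      rw [M.mul _ hx _ (inv_mem hd), Pi.add_apply, h2, Pi.inv_apply, Pi.single_eq_of_ne hji, up_zero, inv_one,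
        ap_one, e_inv M hd, Pi.neg_apply, add_neg_cancel]
    have h2 := (sg_spec M huP (mul_mem hx (inv_mem hd)) j).2 h1
    rw [hj] at h2
    have e : u * (t⁻¹ * (u⁻¹ * c * u) * t * (u⁻¹ * c * u)⁻¹) * u⁻¹ =
      u * (t⁻¹ * (u⁻¹ * c * u) * t) * u⁻¹ * c⁻¹ := by group
    rw [e, M.mul _ (cj_mem huP hx) _ (inv_mem hcV), Pi.add_apply, e_inv M hcV, Pi.neg_apply, ec] at h2
    have h3 := eq_neg_of_add_eq_zero_left h2
    rw [h3, neg_neg]
  rw [key, er] at el
  have := congrFun el 0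
  simp at this

/-- The `i`-th coordinate of `v ^ u` depends only on the `i`-th coordinate of `v`. -/
theorem loc {u : G} (hu : u ∈ U) (i : Fin k) {v w : G} (hv : v ∈ zl S P) (hw : w ∈ zl S P)
    (he : M.e v i = M.e w i) : M.e (u * v * u⁻¹) i = M.e (u * w * u⁻¹) i := by
  have huP := h.UP hu
  have h1 : M.e (v * w⁻¹) i = 0 := by
    rw [M.mul v hv _ (inv_mem hw), Pi.add_apply, e_inv M hw, Pi.neg_apply, he, add_neg_cancel]
  have h2 := (sg_spec M huP (mul_mem hv (inv_mem hw)) i).2 h1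
  rw [sg_eq h M hu i] at h2
  have e : u * (v * w⁻¹) * u⁻¹ = (u * v * u⁻¹) * (u * w * u⁻¹)⁻¹ := by group
  rw [e, M.mul _ (cj_mem huP hv) _ (inv_mem (cj_mem huP hw)), Pi.add_apply, e_inv M (cj_mem huP hw),
    Pi.neg_apply] at h2
  have h3 := eq_neg_of_add_eq_zero_left h2
  rw [h3, neg_neg]

theorem e_mul {u : G} (hu : u ∈ U) (i : Fin k) {v w : G} (hv : v ∈ zl S P) (hw : w ∈ zl S P) :
    M.e (u * (v * w) * u⁻¹) i = M.e (u * v * u⁻¹) i + M.e (u * w * u⁻¹) i := by
  have huP := h.UP hu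
  have e : u * (v * w) * u⁻¹ = (u * v * u⁻¹) * (u * w * u⁻¹) := by group
  rw [e, M.mul _ (cj_mem huP hv) _ (cj_mem huP hw), Pi.add_apply]

theorem invol {u : G} (hu : u ∈ U) (v : G) : u * (u * v * u⁻¹) * u⁻¹ = v := by
  have h1 := h.sq u hu
  have h2 : u⁻¹ * u⁻¹ = 1 := by rw [← mul_inv_rev, h1, inv_one]
  calc u * (u * v * u⁻¹) * u⁻¹ = (u * u) * v * (u⁻¹ * u⁻¹) := by group
    _ = v := by rw [h1, h2, one_mul, mul_one]

/-- The conjugate of `lo 1` under `u`. -/
theorem exists_B {u : G} (hu : u ∈ U) : ∃ B : Fin k → Matrix.SpecialLinearGroup (Fin 2) F, ∀ v ∈ zl S P,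
    ∀ w ∈ zl S P, ∀ i, M.e w i = ap (lo 1) (M.e v i) →
      M.e (u * w * u⁻¹) i = ap (B i) (M.e (u * v * u⁻¹) i) := by
  have huP := h.UP hu
  obtain ⟨g, hg, hgA⟩ := M.lift fun _ => lo 1
  obtain ⟨B, hB⟩ := M.norm u huP g hg _ hgA.1
  refine ⟨B, fun v hv w hw i he => ?_⟩
  have h1 := hB _ (cj_mem huP hv) i
  have e : u * g * u⁻¹ * (u * v * u⁻¹) * (u * g * u⁻¹)⁻¹ = u * (g * v * g⁻¹) * u⁻¹ := by group
  rw [e] at h1
  rw [← h1]
  refine loc h M hu i hw (cj_mem hg hv) ?_
  rw [he, hgA.1 v hv i]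

variable [CharP F 2]

/-- `u` centralises the lines. -/
theorem line_fix {u : G} (hu : u ∈ U) (i : Fin k) {r : G} (hr : r ∈ zl S P) {x : F} (hx : M.e r i = ![x, 0]) :
    M.e (u * r * u⁻¹) i = ![x, 0] := by
  have huP := h.UP hu
  -- the second coordinate
  have hline : ∀ v ∈ zl S P, M.e v i 1 = 0 → M.e (u * v * u⁻¹) i 1 = 0 := by
    intro v hv h0
    have h1 := (e_conj_line M h.SP (h.US hu) hv i).2 h0
    rwa [sg_eq h M hu i] at h1
  by_cases hD : ∀ v ∈ zl S P, M.e (u * v * u⁻¹) i 1 = M.e v i 1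
  · -- trivial on `V / line`
    obtain ⟨B, hB⟩ := exists_B h M hu
    have key : ∀ y : F, ∀ v ∈ zl S P, M.e v i = ![y, 0] →
        ent (B i) 1 0 * M.e (u * v * u⁻¹) i 0 = y := by
      intro y v hv he
      obtain ⟨w, hw, hwe⟩ := exists_fac M i ![y, y]
      have h1 := hB v hv w hw.1 i (by
        rw [hwe, he]
        apply NatPair.ext2
        · rw [NatPair.ap_zero']; simp
        · rw [NatPair.ap_one']; simp)
      have h2 := congrFun h1 1
      rw [NatPair.ap_one', hD w hw.1, hwe, hline v hv (by rw [he]; rfl), mul_zero, add_zero] at h2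
      rw [← h2]
      rfl
    set b := ent (B i) 1 0 with hb
    have hb0 : b ≠ 0 := by
      obtain ⟨v, hv, he⟩ := exists_fac M i ![(1 : F), 0]
      intro h0
      have h1 := key 1 v hv.1 he
      rw [h0, zero_mul] at h1
      exact zero_ne_one h1
    have key2 : ∀ y : F, ∀ v ∈ zl S P, M.e v i = ![y, 0] → M.e (u * v * u⁻¹) i = ![b⁻¹ * y, 0] := by
      intro y v hv he
      apply NatPair.ext2
      · change _ = b⁻¹ * y
        rw [← key y v hv he]
        field_simp
      · exact hline v hv (by rw [he]; rfl)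
    have hb1 : b = 1 := by
      obtain ⟨v, hv, he⟩ := exists_fac M i ![(1 : F), 0]
      have h1 := key2 1 v hv.1 he
      have h2 := key2 _ _ (cj_mem huP hv.1) h1
      rw [h.invol hu, he] at h2
      have h3 := congrFun h2 0
      change (1 : F) = b⁻¹ * (b⁻¹ * 1) at h3
      have h4 : b * b = 1 := by
        field_simp at h3
        rw [← pow_two]
        exact h3
      have h5 : (b + 1) * (b + 1) = 0 := by
        have : (2 : F) = 0 := CharTwo.two_eq_zero
        linear_combination h4 + (b + 1) * this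
      rcases mul_self_eq_zero.1 h5 with h6
      have h7 : b = -1 := eq_neg_of_add_eq_zero_left h6
      rw [h7, CharTwo.neg_eq]
    rw [key2 x r hr hx, hb1, inv_one, one_mul]
  · push Not at hD
    obtain ⟨v, hv, hne⟩ := hD
    set c := u * v * u⁻¹ * v⁻¹ with hc
    have hcU : c ∈ U := h.cm_mem hu (h.VS hv)
    have hcV : c ∈ zl S P := mul_mem (cj_mem huP hv) (inv_mem hv)
    have hc1 : M.e c i 1 ≠ 0 := by
      rw [hc, M.mul _ (cj_mem huP hv) _ (inv_mem hv), Pi.add_apply, Pi.add_apply, e_inv M hv, Pi.neg_apply,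
        Pi.neg_apply]
      intro h0
      exact hne (eq_neg_of_add_eq_zero_left h0 |>.trans (neg_neg _))
    -- an element of `U` with the `i`-th coordinate `![x, 0]`
    obtain ⟨t, ht, htA⟩ := M.unip (Pi.single i (x / M.e c i 1))
    have htP := h.SP ht
    have hdU := h.cm_mem' hcU ht
    have hdV : t * c * t⁻¹ * c⁻¹ ∈ zl S P := mul_mem (cj_mem htP hcV) (inv_mem hcV)
    have hde : M.e (t * c * t⁻¹ * c⁻¹) i = ![x, 0] := by
      rw [M.mul _ (cj_mem htP hcV) _ (inv_mem hcV), Pi.add_apply, htA.1 c hcV i, e_inv M hcV, Pi.neg_apply]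
      change ap (up ((Pi.single i (x / M.e c i 1) : Fin k → F) i)) (M.e c i) + -M.e c i = ![x, 0]
      rw [Pi.single_eq_same]
      apply NatPair.ext2
      · rw [Pi.add_apply, NatPair.ap_zero']
        simp only [up_00, up_01, Pi.neg_apply]
        change _ = x
        field_simp
        ring
      · rw [Pi.add_apply, NatPair.ap_one']
        simp only [up_10, up_11, Pi.neg_apply]
        change _ = (0 : F)
        ring
    rw [loc h M hu i hr hdV (by rw [hx, hde])]
    have h2 := h.ab u hu _ hdU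
    have e : u * (t * c * t⁻¹ * c⁻¹) * u⁻¹ = t * c * t⁻¹ * c⁻¹ := by rw [h2]; group
    rw [e, hde]

/-- **Every `u ∈ U` acts as `fun i => up (b i)`.** -/
theorem exists_up {u : G} (hu : u ∈ U) : ∃ b : Fin k → F, ∀ v ∈ zl S P, ∀ i,
    M.e (u * v * u⁻¹) i = ap (up (b i)) (M.e v i) := by
  have huP := h.UP hu
  obtain ⟨B, hB⟩ := exists_B h M hu
  have key : ∀ i, ∀ x : F, ∀ v ∈ zl S P, M.e v i = ![0, x] →
      M.e (u * v * u⁻¹) i = ![(ent (B i) 0 0 - 1) * x, ent (B i) 1 0 * x] := by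
    intro i x v hv he
    obtain ⟨r, hr, hre⟩ := exists_fac M i ![x, 0]
    have h1 := hB r hr.1 (r * v) (mul_mem hr.1 hv) i (by
      rw [M.mul r hr.1 v hv, Pi.add_apply, hre, he]
      apply NatPair.ext2
      · rw [NatPair.ap_zero']; simp
      · rw [NatPair.ap_one']; simp)
    rw [e_mul h M hu i hr.1 hv, line_fix h M hu i hr.1 hre] at h1
    have h2 : M.e (u * v * u⁻¹) i = ap (B i) ![x, 0] - ![x, 0] := by rw [← h1]; abel
    rw [h2]
    apply NatPair.ext2
    · rw [Pi.sub_apply, NatPair.ap_zero']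
      change ent (B i) 0 0 * x + ent (B i) 0 1 * 0 - x = (ent (B i) 0 0 - 1) * x
      ring
    · rw [Pi.sub_apply, NatPair.ap_one']
      change ent (B i) 1 0 * x + ent (B i) 1 1 * 0 - 0 = ent (B i) 1 0 * x
      ring
  have hB1 : ∀ i, ent (B i) 1 0 = 1 := by
    intro i
    set b := ent (B i) 1 0 with hb
    set a := ent (B i) 0 0 - 1 with ha
    obtain ⟨v, hv, he⟩ := exists_fac M i ![0, (1 : F)]
    have h1 := key i 1 v hv.1 he
    rw [← ha, ← hb, mul_one, mul_one] at h1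
    obtain ⟨r, hr, hre⟩ := exists_fac M i ![a, 0]
    obtain ⟨s, hs, hse⟩ := exists_fac M i ![0, b]
    have h2 : M.e (u * (u * v * u⁻¹) * u⁻¹) i = M.e (u * (r * s) * u⁻¹) i := by
      refine loc h M hu i (cj_mem huP hv.1) (mul_mem hr.1 hs.1) ?_
      rw [h1, M.mul r hr.1 s hs.1, Pi.add_apply, hre, hse]
      apply NatPair.ext2
      · simp
      · simp
    rw [h.invol hu, he, e_mul h M hu i hr.1 hs.1, line_fix h M hu i hr.1 hre, key i b s hs.1 hse] at h2
    have h3 := congrFun h2 1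
    change (1 : F) = 0 + b * b at h3
    have h5 : (b + 1) * (b + 1) = 0 := by
      have : (2 : F) = 0 := CharTwo.two_eq_zero
      linear_combination -h3 + (b + 1) * this
    have h7 : b = -1 := eq_neg_of_add_eq_zero_left (mul_self_eq_zero.1 h5)
    rw [h7, CharTwo.neg_eq]
  refine ⟨fun i => ent (B i) 0 0 - 1, fun v hv i => ?_⟩
  · obtain ⟨r, hr, hre⟩ := exists_fac M i ![M.e v i 0, 0]
    obtain ⟨s, hs, hse⟩ := exists_fac M i ![0, M.e v i 1]
    have h1 : M.e (u * v * u⁻¹) i = M.e (u * (r * s) * u⁻¹) i := by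
      refine loc h M hu i hv (mul_mem hr.1 hs.1) ?_
      rw [M.mul r hr.1 s hs.1, Pi.add_apply, hre, hse]
      apply NatPair.ext2
      · simp
      · simp
    rw [h1, e_mul h M hu i hr.1 hs.1, line_fix h M hu i hr.1 hre, key i _ s hs.1 hse, hB1 i]
    apply NatPair.ext2
    · rw [Pi.add_apply, NatPair.ap_zero']
      simp only [up_00, up_01]
      change M.e v i 0 + (ent (B i) 0 0 - 1) * M.e v i 1 = _
      ring
    · rw [Pi.add_apply, NatPair.ap_one']
      simp only [up_10, up_11]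
      change 0 + 1 * M.e v i 1 = _
      ring

end main

end Cfsg.Agent.Omega.NOThreeL.RStr
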