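import Cfsg.Agent.Omega.NOThreeL.RStr.Act
import Cfsg.Agent.Omega.NOThreeL.RTools.Many.Final

/-!
# NO-3L, box R, case (A), `V_P = natural^k` over `F₂` modulo `D`, NO exactness hypothesis ([R-str] of #19585, `q = 2`)

`D ≤ C(P)` (`le_cent`): the projection `v ↦ v v^g v^{g²}` onto `D`, `g` fixed-point-free of order 3 on `V_P / D`, is
`P`-equivariant. So `U_H` centralises `D` and acts as `up (b i)` modulo `D` (`exists_up`), whether or not `U_H` is an
offender, and `Many.HypK.false` applies.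

* `le_cent` : `D ≤ C(P)`; `le_cent_U` : `D ≤ C(U_H)`;
* `false_of_natK'` : `Many.false_of_nat` (helper571).
-/

set_option autoImplicit false
set_option Elab.async false
set_option linter.unusedSectionVars false

namespace Cfsg.Agent.Omega.NOThreeL.RStr

open Subgroup Cfsg Cfsg.Agent.Omega.MinPar Cfsg.Agent.Omega.Frame Cfsg.Agent.Omega.FrameNOFF
open Cfsg.Agent.ZN hiding zl_le le_normalizer_zl zc_le_zl zc_le mem_zc
open Cfsg.Agent.Omega.Node.NO3L Cfsg.Agent.Omega.NOThreeL.Basic Cfsg.Agent.Omega.NOThreeL.RTransv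
open Cfsg.Agent.Omega.NOThreeL.Pair (zl_abel)
open Cfsg.Agent.Omega.FFThm (Off NatK ActsSL)
open Cfsg.Agent.Omega.NatPair (ap ap_mul ap_one ap_inv_ap)
open Cfsg.Agent.Lib.SL2Mat
open Cfsg.Agent.MinSimple.VModule (zl_le le_normalizer_zl zc_le_zl zc_le mem_zc)
open Cfsg.Agent.Omega.NOThreeL.RTools.Many (ActK ap_zero)

universe u

variable {G : Type u} [Group G] {k : ℕ} {F : Type} [Field F]

/-! ### Elements of order 3 of `SL₂(2)` -/

section sl

variable [CharP F 2]

/-- an element of order 3 -/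
def om (F : Type) [Field F] : Matrix.SpecialLinearGroup (Fin 2) F := up 1 * lo 1

theorem om_00 : ent (om F) 0 0 = 0 := by
  rw [om, ent_mul]
  simp [CharTwo.add_self_eq_zero]

theorem om_01 : ent (om F) 0 1 = 1 := by
  rw [om, ent_mul]
  simp

theorem om_10 : ent (om F) 1 0 = 1 := by
  rw [om, ent_mul]
  simp

theorem om_11 : ent (om F) 1 1 = 1 := by
  rw [om, ent_mul]
  simp

/-- the fixed-point-free elements of `SL₂(2)` -/
def Om (B : Matrix.SpecialLinearGroup (Fin 2) F) : Prop :=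
  (ent B 0 0 = 0 ∧ ent B 0 1 = 1 ∧ ent B 1 0 = 1 ∧ ent B 1 1 = 1) ∨
    (ent B 0 0 = 1 ∧ ent B 0 1 = 1 ∧ ent B 1 0 = 1 ∧ ent B 1 1 = 0)

theorem Om_om : Om (om F) := Or.inl ⟨om_00, om_01, om_10, om_11⟩

theorem Om.comm {A B : Matrix.SpecialLinearGroup (Fin 2) F} (hA : Om A) (hB : Om B) : A * B = B * A := by
  have h11 : (1 : F) + 1 = 0 := CharTwo.add_self_eq_zero 1
  rcases hA with ⟨a1, a2, a3, a4⟩ | ⟨a1, a2, a3, a4⟩ <;> rcases hB with ⟨b1, b2, b3, b4⟩ | ⟨b1, b2, b3, b4⟩ <;>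
    (apply ext_ent <;> simp [ent_mul, a1, a2, a3, a4, b1, b2, b3, b4, h11])

theorem Om.sum {A : Matrix.SpecialLinearGroup (Fin 2) F} (hA : Om A) (x : Fin 2 → F) :
    x + ap A x + ap A (ap A x) = 0 := by
  have h2 : ∀ y : F, y + y = 0 := CharTwo.add_self_eq_zero
  rcases hA with ⟨a1, a2, a3, a4⟩ | ⟨a1, a2, a3, a4⟩
  · apply NatPair.ext2
    · simp only [Pi.add_apply, NatPair.ap_zero', NatPair.ap_one', a1, a2, a3, a4, Pi.zero_apply]
      linear_combination h2 (x 0) + h2 (x 1)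
    · simp only [Pi.add_apply, NatPair.ap_zero', NatPair.ap_one', a1, a2, a3, a4, Pi.zero_apply]
      linear_combination h2 (x 0) + 2 * h2 (x 1)
  · apply NatPair.ext2
    · simp only [Pi.add_apply, NatPair.ap_zero', NatPair.ap_one', a1, a2, a3, a4, Pi.zero_apply]
      linear_combination 2 * h2 (x 0) + h2 (x 1)
    · simp only [Pi.add_apply, NatPair.ap_zero', NatPair.ap_one', a1, a2, a3, a4, Pi.zero_apply]
      linear_combination h2 (x 0) + h2 (x 1)

theorem Om.fpf {A : Matrix.SpecialLinearGroup (Fin 2) F} (hA : Om A) {x : Fin 2 → F} (h : ap A x = x) : x = 0 := by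
  have h1 := hA.sum x
  rw [h, h] at h1
  apply NatPair.ext2
  · have := congrFun h1 0
    simp only [Pi.add_apply, Pi.zero_apply, CharTwo.add_self_eq_zero, zero_add] at this
    exact this
  · have := congrFun h1 1
    simp only [Pi.add_apply, Pi.zero_apply, CharTwo.add_self_eq_zero, zero_add] at this
    exact this

theorem Om.of_fpf (hF : ∀ x : F, x = 0 ∨ x = 1) {B : Matrix.SpecialLinearGroup (Fin 2) F}
    (h : ∀ x, ap B x = x → x = 0) : Om B := by
  have h11 : (1 : F) + 1 = 0 := CharTwo.add_self_eq_zero 1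
  have hd := det_eq B
  have h1 := h ![1, 0]
  have h2 := h ![0, 1]
  have h3 := h ![1, 1]
  have n1 : ¬ (ent B 0 0 = 1 ∧ ent B 1 0 = 0) := by
    rintro ⟨e1, e2⟩
    have := h1 (by
      apply NatPair.ext2
      · rw [NatPair.ap_zero', e1]; simp
      · rw [NatPair.ap_one', e2]; simp)
    have := congrFun this 0
    simp at this
  have n2 : ¬ (ent B 0 1 = 0 ∧ ent B 1 1 = 1) := by
    rintro ⟨e1, e2⟩
    have := h2 (by
      apply NatPair.ext2
      · rw [NatPair.ap_zero', e1]; simp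
      · rw [NatPair.ap_one', e2]; simp)
    have := congrFun this 1
    simp at this
  have n3 : ¬ (ent B 0 0 + ent B 0 1 = 1 ∧ ent B 1 0 + ent B 1 1 = 1) := by
    rintro ⟨e1, e2⟩
    have := h3 (by
      apply NatPair.ext2
      · rw [NatPair.ap_zero']; simpa using e1
      · rw [NatPair.ap_one']; simpa using e2)
    have := congrFun this 1
    simp at this
  rcases hF (ent B 0 0) with a | a <;> rcases hF (ent B 0 1) with b | b <;> rcases hF (ent B 1 0) with c | c <;>
    rcases hF (ent B 1 1) with d | d <;> simp only [a, b, c, d] at n1 n2 n3 hd <;> simp_all [Om]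

end sl

/-! ### The projection onto `D` -/

/-- `v v^g v^{g²}` -/
def nm (g v : G) : G := v * (g * v * g⁻¹) * (g * (g * v * g⁻¹) * g⁻¹)

theorem conj_nm (p g v : G) : p * nm g v * p⁻¹ = nm (p * g * p⁻¹) (p * v * p⁻¹) := by
  rw [nm, nm]; group

section main

variable [Finite G] {S : Sylow 2 G} {P D : Subgroup G} {e : G → Fin k → Fin 2 → F}

/-- `g ∈ P` centralises `D` and acts fixed-point-freely on `V / D`, with the matrix `B i` of order 3 on the `i`-th
factor. -/
structure Good (S P D : Subgroup G) (e : G → Fin k → Fin 2 → F) (g : G) : Prop where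
  mem : g ∈ P
  cen : g ∈ centralizer (D : Set G)
  act : ∃ B, ActK e (zl S P) g B ∧ ∀ i, Om (B i)

variable [CharP F 2] (hc : IsCharacteristicTwoType G) (hP : IsParS (S : Subgroup G) P)
  (hF : ∀ x : F, x = 0 ∨ x = 1)
  (M : NatK F (S : Subgroup G) P (zl (S : Subgroup G) P) D k) (hDV : D ≤ zl (S : Subgroup G) P)

omit [Finite G] [CharP F 2] in
theorem con {g v : G} (hg : g ∈ P) (hv : v ∈ zl (S : Subgroup G) P) :
    g * v * g⁻¹ ∈ zl (S : Subgroup G) P :=
  (mem_normalizer_iff.1 (le_normalizer_zl _ _ hg) _).1 hv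

omit [Finite G] [CharP F 2] in
theorem nm_mem {g v : G} (hg : g ∈ P) (hv : v ∈ zl (S : Subgroup G) P) : nm g v ∈ zl (S : Subgroup G) P :=
  mul_mem (mul_mem hv (con hg hv)) (con hg (con hg hv))

omit [Finite G] [CharP F 2] in
include M hDV in
/-- `D` is normal in `P` -/
theorem PD : P ≤ normalizer (D : Set G) := by
  have ker' : ∀ g ∈ P, ∀ v ∈ zl (S : Subgroup G) P, M.e (g * v * g⁻¹) = 0 ↔ M.e v = 0 := by
    intro g hg v hv
    obtain ⟨σ, hσ⟩ := M.perm g hg
    constructor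
    · intro h
      funext i
      exact (hσ v hv i).1 (congrFun h _)
    · intro h
      funext i
      obtain ⟨j, rfl⟩ := σ.surjective i
      exact (hσ v hv j).2 (congrFun h j)
  intro g hg
  rw [mem_normalizer_iff]
  intro x
  constructor
  · intro hx
    have hxW := hDV hx
    rw [← M.ker _ (con hg hxW), ker' g hg x hxW]
    exact (M.ker x hxW).2 hx
  · intro hx
    have hxW : x ∈ zl (S : Subgroup G) P := (mem_normalizer_iff.1 (le_normalizer_zl _ _ hg) _).2 (hDV hx)
    rw [← M.ker x hxW, ← ker' g hg x hxW]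
    exact (M.ker _ (con hg hxW)).2 hx

include hc hP

omit [CharP F 2] in
theorem sqV : ∀ v ∈ zl (S : Subgroup G) P, v * v = 1 := fun v hv => by
  rw [← pow_two]; exact (FFThm.elem_zl hc S hP.isLoc).2 v hv

omit [CharP F 2] in
theorem abV : ∀ v ∈ zl (S : Subgroup G) P, ∀ w ∈ zl (S : Subgroup G) P, v * w = w * v := fun v hv w hw =>
  congrArg Subtype.val ((FFThm.elem_zl hc S hP.isLoc).1.1.1 ⟨v, hv⟩ ⟨w, hw⟩)

omit [CharP F 2] in
theorem nm_mul {g v w : G} (hg : g ∈ P) (hv : v ∈ zl (S : Subgroup G) P) (hw : w ∈ zl (S : Subgroup G) P) :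
    nm g (v * w) = nm g v * nm g w := by
  have h1 := abV hc hP
  have e1 : g * (v * w) * g⁻¹ = (g * v * g⁻¹) * (g * w * g⁻¹) := by group
  have e2 : g * ((g * v * g⁻¹) * (g * w * g⁻¹)) * g⁻¹ = (g * (g * v * g⁻¹) * g⁻¹) * (g * (g * w * g⁻¹) * g⁻¹) := by
    group
  rw [nm, nm, nm, e1, e2]
  have hv1 := con hg hv
  have hv2 := con hg hv1
  have hw1 := con hg hw
  have hw2 := con hg hw1
  generalize g * (g * v * g⁻¹) * g⁻¹ = v2 at *
  generalize g * (g * w * g⁻¹) * g⁻¹ = w2 at *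
  generalize g * v * g⁻¹ = v1 at *
  generalize g * w * g⁻¹ = w1 at *
  have c1 := h1 w hw v1 hv1
  have c2 := h1 w hw v2 hv2
  have c3 := h1 w1 hw1 v2 hv2
  calc v * w * (v1 * w1) * (v2 * w2) = v * (w * v1) * w1 * (v2 * w2) := by group
    _ = v * v1 * w * (w1 * v2) * w2 := by rw [c1]; group
    _ = v * v1 * (w * v2) * w1 * w2 := by rw [c3]; group
    _ = v * v1 * v2 * (w * w1 * w2) := by rw [c2]; group

omit [CharP F 2] in
/-- `nm g d = d` for `d ∈ D` -/
theorem nm_D {g d : G} (hg : g ∈ centralizer (D : Set G)) (hd : d ∈ D) (hdV : d ∈ zl (S : Subgroup G) P) :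
    nm g d = d := by
  have h1 : g * d * g⁻¹ = d := by
    rw [← mem_centralizer_iff.1 hg d hd, mul_inv_cancel_right]
  rw [nm, h1, h1, mul_assoc, sqV hc hP d hdV, mul_one]

include M hDV

omit [CharP F 2] in
/-- an element acting trivially on `V / D` and `D` centralises `V` -/
theorem cent {x : G} (hx : x ∈ P) (h1 : ActK M.e (zl (S : Subgroup G) P) x 1) (h2 : x ∈ centralizer (D : Set G)) :
    x ∈ centralizer (zl (S : Subgroup G) P : Set G) := by
  refine le_centralizer S hP.le hDV (PD M hDV) (sqV hc hP) ⟨le_normalizer_zl _ _ hx, fun v hv => ?_⟩ h2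
  rw [← M.ker _ (mul_mem (con hx hv) (inv_mem hv)), M.mul _ (con hx hv) _ (inv_mem hv), e_inv M hv]
  funext i
  have h1 := h1 v hv i
  change M.e (x * v * x⁻¹) i + -(M.e v i) = 0
  rw [h1]
  change ap 1 (M.e v i) + -(M.e v i) = 0
  rw [ap_one, add_neg_cancel]

omit [CharP F 2] in
/-- two elements of `P` with the same action on `V / D`, centralising `D` -/
theorem same {x y : G} (hxP : x ∈ P) (hyP : y ∈ P) (hxD : x ∈ centralizer (D : Set G))
    (hyD : y ∈ centralizer (D : Set G)) {A : Fin k → Matrix.SpecialLinearGroup (Fin 2) F}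
    (hx : ActK M.e (zl (S : Subgroup G) P) x A)
    (hy : ActK M.e (zl (S : Subgroup G) P) y A) {v : G} (hv : v ∈ zl (S : Subgroup G) P) :
    x * v * x⁻¹ = y * v * y⁻¹ := by
  have h1 : y⁻¹ * x ∈ centralizer (zl (S : Subgroup G) P : Set G) := by
    refine cent hc hP M hDV (mul_mem (inv_mem hyP) hxP) ?_ (mul_mem (inv_mem hyD) hxD)
    have := (hy.inv (le_normalizer_zl _ _ hyP)).mul hx (le_normalizer_zl _ _ hxP)
    rwa [inv_mul_cancel] at this
  have h2 := mem_centralizer_iff.1 h1 v hv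
  calc x * v * x⁻¹ = y * (y⁻¹ * x * v) * x⁻¹ := by group
    _ = y * (v * (y⁻¹ * x)) * x⁻¹ := by rw [h2]
    _ = y * v * y⁻¹ := by group

omit hc hP in
/-- `nm g v ∈ D` -/
theorem nm_mem_D {g v : G} (hg : Good (S : Subgroup G) P D M.e g) (hv : v ∈ zl (S : Subgroup G) P) :
    nm g v ∈ D := by
  obtain ⟨B, hB, hO⟩ := hg.act
  rw [← M.ker _ (nm_mem hg.mem hv), nm, M.mul _ (mul_mem hv (con hg.mem hv)) _ (con hg.mem (con hg.mem hv)),
    M.mul _ hv _ (con hg.mem hv)]
  funext i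
  rw [Pi.add_apply, Pi.add_apply, hB _ (con hg.mem hv) i, hB _ hv i]
  exact (hO i).sum _

/-- good elements define the same projection -/
theorem nm_eq {g h v : G} (hg : Good (S : Subgroup G) P D M.e g) (hh : Good (S : Subgroup G) P D M.e h)
    (hv : v ∈ zl (S : Subgroup G) P) : nm h v = nm g v := by
  obtain ⟨A, hA, hAO⟩ := hg.act
  obtain ⟨B, hB, hBO⟩ := hh.act
  have hAB : A * B = B * A := funext fun i => (hAO i).comm (hBO i)
  -- `g` and `h` commute on `V`
  have hcm : ∀ w ∈ zl (S : Subgroup G) P, g * (h * w * h⁻¹) * g⁻¹ = h * (g * w * g⁻¹) * h⁻¹ := by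
    intro w hw
    have h1 := hA.mul hB (le_normalizer_zl _ _ hh.mem)
    have h2 := hB.mul hA (le_normalizer_zl _ _ hg.mem)
    rw [← hAB] at h2
    have h3 := same hc hP M hDV (mul_mem hg.mem hh.mem) (mul_mem hh.mem hg.mem) (mul_mem hg.cen hh.cen)
      (mul_mem hh.cen hg.cen) h1 h2 hw
    calc g * (h * w * h⁻¹) * g⁻¹ = g * h * w * (g * h)⁻¹ := by group
      _ = h * g * w * (h * g)⁻¹ := h3
      _ = h * (g * w * g⁻¹) * h⁻¹ := by group
  have hc1 : ∀ w ∈ zl (S : Subgroup G) P, nm g (h * w * h⁻¹) = nm g w := by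
    intro w hw
    have h4 : nm g (h * w * h⁻¹) = h * nm g w * h⁻¹ := by
      rw [nm, nm, hcm w hw, hcm _ (con hg.mem hw)]
      group
    rw [h4, ← mem_centralizer_iff.1 hh.cen _ (nm_mem_D M hDV hg hw), mul_inv_cancel_right]
  have h5 : nm g (nm h v) = nm g v := by
    have hv1 := con hh.mem hv
    have hv2 := con hh.mem hv1
    conv_lhs => rw [nm.eq_1 h v]
    rw [nm_mul hc hP hg.mem (mul_mem hv hv1) hv2, nm_mul hc hP hg.mem hv hv1, hc1 _ hv1, hc1 v hv, mul_assoc,
      sqV hc hP _ (nm_mem hg.mem hv), mul_one]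
  rw [← h5, nm_D hc hP hg.cen (nm_mem_D M hDV hh hv) (nm_mem hh.mem hv)]

include hF in
omit hc hP in
/-- conjugates of good elements are good -/
theorem good_conj {g p : G} (hg : Good (S : Subgroup G) P D M.e g) (hp : p ∈ P) :
    Good (S : Subgroup G) P D M.e (p * g * p⁻¹) := by
  obtain ⟨A, hA, hAO⟩ := hg.act
  obtain ⟨B, hB⟩ := M.norm p hp g hg.mem A hA
  refine ⟨mul_mem (mul_mem hp hg.mem) (inv_mem hp), ?_, B, hB, fun i => Om.of_fpf hF fun x hx => ?_⟩
  · rw [mem_centralizer_iff]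
    intro d hd
    have h1 : p⁻¹ * d * p ∈ D := by
      have := (mem_normalizer_iff.1 (PD M hDV (inv_mem hp)) d).1 hd
      rwa [inv_inv] at this
    have h2 := mem_centralizer_iff.1 hg.cen _ h1
    calc d * (p * g * p⁻¹) = p * (p⁻¹ * d * p * g) * p⁻¹ := by group
      _ = p * (g * (p⁻¹ * d * p)) * p⁻¹ := by rw [h2]
      _ = p * g * p⁻¹ * d := by group
  · obtain ⟨w, hw, hwe⟩ := exists_fac M i x
    -- `g'` fixes `w` modulo `D`
    have h1 : p * g * p⁻¹ * w * (p * g * p⁻¹)⁻¹ * w⁻¹ ∈ D := by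
      have hw' := con (mul_mem (mul_mem hp hg.mem) (inv_mem hp)) hw.1
      rw [← M.ker _ (mul_mem hw' (inv_mem hw.1)), M.mul _ hw' _ (inv_mem hw.1), e_inv M hw.1]
      funext j
      change M.e (p * g * p⁻¹ * w * (p * g * p⁻¹)⁻¹) j + -(M.e w j) = 0
      rw [hB w hw.1 j]
      by_cases hj : j = i
      · rw [hj, hwe, hx, add_neg_cancel]
      · rw [hw.2 j hj, ap_zero, neg_zero, add_zero]
    have hv : p⁻¹ * w * p ∈ zl (S : Subgroup G) P := by
      have := con (inv_mem hp) hw.1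
      rwa [inv_inv] at this
    have h2 : g * (p⁻¹ * w * p) * g⁻¹ * (p⁻¹ * w * p)⁻¹ ∈ D := by
      have := (mem_normalizer_iff.1 (PD M hDV (inv_mem hp)) _).1 h1
      have e1 : g * (p⁻¹ * w * p) * g⁻¹ * (p⁻¹ * w * p)⁻¹ =
        p⁻¹ * (p * g * p⁻¹ * w * (p * g * p⁻¹)⁻¹ * w⁻¹) * p⁻¹⁻¹ := by group
      rwa [e1]
    rw [← M.ker _ (mul_mem (con hg.mem hv) (inv_mem hv)), M.mul _ (con hg.mem hv) _ (inv_mem hv), e_inv M hv] at h2
    have h3 : M.e (p⁻¹ * w * p) = 0 := by
      funext j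
      have h4 := congrFun h2 j
      change M.e (g * (p⁻¹ * w * p) * g⁻¹) j + -(M.e (p⁻¹ * w * p) j) = 0 at h4
      rw [hA _ hv j] at h4
      exact (hAO j).fpf (by rw [eq_neg_of_add_eq_zero_left h4, neg_neg])
    rw [M.ker _ hv] at h3
    have h5 : w ∈ D := by
      have := (mem_normalizer_iff.1 (PD M hDV hp) _).1 h3
      have e1 : p * (p⁻¹ * w * p) * p⁻¹ = w := by group
      rwa [e1] at this
    rw [← M.ker _ hw.1] at h5
    rw [← hwe, h5]
    rfl

omit hc hP hDV in
theorem exists_good : ∃ g, Good (S : Subgroup G) P D M.e g := by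
  obtain ⟨g, hg, h1, h2⟩ := M.lift fun _ => om F
  exact ⟨g, hg, mem_centralizer_iff.2 fun d hd => (h2 d hd).symm, _, h1, fun _ => Om_om⟩

include hF in
/-- **`D ≤ C(P)`.** -/
theorem le_cent : D ≤ centralizer (P : Set G) := by
  obtain ⟨g, hg⟩ := exists_good (S := S) M
  have hVP : zl (S : Subgroup G) P ≤ P := (IsParS.zl_le_S hc hP).trans hP.le
  have hSP : (S : Subgroup G) ≤ P := hP.le
  -- the equivariance
  have heq : ∀ p ∈ P, ∀ v ∈ zl (S : Subgroup G) P, p * nm g v * p⁻¹ = nm g (p * v * p⁻¹) := by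
    intro p hp v hv
    rw [conj_nm]
    exact nm_eq hc hP M hDV hg (good_conj hF M hDV hg hp) (con hp hv)
  -- `N(Z) ≤ C(P)`
  have hZ : ∀ z ∈ zc (S : Subgroup G), nm g z ∈ centralizer (P : Set G) := by
    intro z hz
    have hzV : z ∈ zl (S : Subgroup G) P := zc_le_zl _ _ hz
    have hxD := nm_mem_D M hDV hg hzV
    have h1 : P ≤ centralizer ({nm g z} : Set G) := by
      refine M.gen _ (fun s hs => ?_) fun h _ A hA => ?_
      · rw [mem_centralizer_singleton_iff]
        have h2 := heq s (hSP hs) z hzV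
        have h3 : s * z * s⁻¹ = z := by
          rw [(mem_zc.1 hz).2.1 s hs, mul_inv_cancel_right]
        rw [h3] at h2
        exact mul_inv_eq_iff_eq_mul.1 h2
      · rw [mem_centralizer_singleton_iff]
        exact hA.2 _ hxD
    rw [mem_centralizer_iff]
    intro p hp
    exact mem_centralizer_singleton_iff.1 (h1 hp)
  -- `W = {v | N(v) ∈ C(P)}`
  let W : Subgroup G :=
    { carrier := {v | v ∈ zl (S : Subgroup G) P ∧ nm g v ∈ centralizer (P : Set G)}
      one_mem' := ⟨one_mem _, by rw [nm]; simp⟩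
      mul_mem' := by
        rintro a b ⟨ha, ha'⟩ ⟨hb, hb'⟩
        exact ⟨mul_mem ha hb, by rw [nm_mul hc hP hg.mem ha hb]; exact mul_mem ha' hb'⟩
      inv_mem' := by
        rintro a ⟨ha, ha'⟩
        refine ⟨inv_mem ha, ?_⟩
        rw [inv_eq_of_mul_eq_one_left (sqV hc hP a ha)]
        exact ha' }
  have hW : zl (S : Subgroup G) P ≤ W := by
    refine zl_le (fun z hz => ⟨zc_le_zl _ _ hz, hZ z hz⟩) ?_
    have key : ∀ p ∈ P, ∀ v ∈ W, p * v * p⁻¹ ∈ W := by
      rintro p hp v ⟨hv, hv'⟩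
      refine ⟨con hp hv, ?_⟩
      rw [← heq p hp v hv, mem_centralizer_iff.1 hv' p hp, mul_inv_cancel_right]
      exact hv'
    intro p hp
    rw [mem_normalizer_iff]
    intro v
    refine ⟨key p hp v, fun h => ?_⟩
    have h1 := key p⁻¹ (inv_mem hp) _ h
    have e1 : p⁻¹ * (p * v * p⁻¹) * p⁻¹⁻¹ = v := by group
    rwa [e1] at h1
  intro d hd
  have h1 := (hW (hDV hd)).2
  rwa [nm_D hc hP hg.cen hd (hDV hd)] at h1

end main

/-! ### The plugs -/

section plug

variable [Finite G] {S : Sylow 2 G} {P H D : Subgroup G}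

theorem quad (hc : IsCharacteristicTwoType G) (hPH : PairA (S : Subgroup G) P H) :
    AFour.Quad (S : Subgroup G) P (zl (S : Subgroup G) H) where
  SP := hPH.par.le
  VS := IsParS.zl_le_S hc hPH.par
  US := IsLong.zl_le_S hc hPH.long
  SU := hPH.long.loc.le.trans (le_normalizer_zl _ _)
  ab := fun u hu v hv => mem_centralizer_iff.1 ((zl_abel hc S hPH.long.loc).1 hv) u hu
  sq := fun u hu => by
    have h1 := (mem_zc.1 (hPH.long.loc.zl_le S hc hu)).2.2
    rwa [pow_two] at h1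

/-- `U_H` centralises `D`. -/
theorem le_cent_U [CharP F 2] (hc : IsCharacteristicTwoType G) (hPH : PairA (S : Subgroup G) P H)
    (hF : ∀ x : F, x = 0 ∨ x = 1) (M : NatK F (S : Subgroup G) P (zl (S : Subgroup G) P) D k)
    (hDV : D ≤ zl (S : Subgroup G) P) : D ≤ centralizer (zl (S : Subgroup G) H : Set G) :=
  (le_cent hc hPH.par hF M hDV).trans (centralizer_le ((IsLong.zl_le_S hc hPH.long).trans hPH.par.le))

/-- **[R-str], `q = 2`, all `k`**: `Data S` (no mutual pair), `P ∈ P*(S)`, `H` long, `[V_P, U_H] ≠ 1`; then `V_P` is not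
a natural `SL₂(2)^k`-module modulo `D ≤ V_P` (`C_Z(P)` arbitrary, `U_H` offender or not). -/
theorem false_of_natK' [CharP F 2] (hc : IsCharacteristicTwoType G) (Da : DataLow (S : Subgroup G))
    (hPH : PairA (S : Subgroup G) P H) (hF : ∀ x : F, x = 0 ∨ x = 1)
    (M : NatK F (S : Subgroup G) P (zl (S : Subgroup G) P) D k) (hDV : D ≤ zl (S : Subgroup G) P) : False :=
  RTools.Many.false_of_nat hc Da hPH hF M hDV

end plug

end Cfsg.Agent.Omega.NOThreeL.RStr
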